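import Groth.Agent.Synt29.QRDescentFF
import Groth.Agent.RegConormal.Split2

/-!
# `H_1`-regularity: flat base change, descent, locality
-/

set_option autoImplicit false
set_option linter.style.haveILetI false
set_option backward.isDefEq.respectTransparency.types false

universe u

open TensorProduct MvPolynomial Groth.Agent.KRegLib Groth.Agent.RegConormal Groth.Agent.Synt29.QRDescent

namespace Groth.Agent.KindDescent

variable {A S : Type u} [CommRing A] [CommRing S] [Algebra A S] {c : ℕ}

/-- The trivial relations. -/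
def triv (f : Fin c → A) : Submodule A (Fin c → A) :=
  Submodule.span A {v : Fin c → A | ∃ i j : Fin c, v = Pi.single i (f j) - Pi.single j (f i)}

theorem comp_mem_triv {f : Fin c → A} {v : Fin c → A} (hv : v ∈ triv f) :
    (fun i => algebraMap A S (v i)) ∈ triv fun i => algebraMap A S (f i) := by
  induction hv using Submodule.span_induction with
  | mem v hv =>
    obtain ⟨i, j, rfl⟩ := hv
    refine Submodule.subset_span ⟨i, j, ?_⟩
    funext k
    simp only [Pi.sub_apply, map_sub, Pi.single_apply, apply_ite (algebraMap A S), map_zero]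
  | zero =>
    simp only [Pi.zero_apply, map_zero]
    exact zero_mem (triv fun i => algebraMap A S (f i))
  | add v w _ _ hv hw =>
    have := add_mem hv hw
    simpa only [Pi.add_apply, map_add, Pi.add_def] using this
  | smul r v _ hv =>
    have := Submodule.smul_mem (triv fun i => algebraMap A S (f i)) (algebraMap A S r) hv
    simpa only [Pi.smul_apply, smul_eq_mul, map_mul, Pi.smul_def] using this

/-- `H_1`-regular sequences stay `H_1`-regular in flat algebras. -/
theorem h1_flat [Module.Flat A S] {f : Fin c → A} (hf : CAlgX.IsH1Regular f) :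
    CAlgX.IsH1Regular fun i => algebraMap A S (f i) := by
  classical
  intro u hu
  let φ : (Fin c → A) →ₗ[A] A := Fintype.linearCombination A f
  have hex : Function.Exact ((LinearMap.ker φ).subtype.lTensor S) (φ.lTensor S) :=
    Module.Flat.lTensor_exact S (LinearMap.exact_subtype_ker_map φ)
  let e := TensorProduct.piScalarRight A S S (Fin c)
  have he : ∀ z : S ⊗[A] (Fin c → A),
      Algebra.TensorProduct.rid A S S (φ.lTensor S z) = ∑ j, e z j * algebraMap A S (f j) := by
    intro z
    induction z using TensorProduct.induction_on with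
    | zero => simp
    | tmul b v =>
      rw [LinearMap.lTensor_tmul, Algebra.TensorProduct.rid_tmul]
      simp only [φ, Fintype.linearCombination_apply, smul_eq_mul, e, TensorProduct.piScalarRight_apply,
        TensorProduct.piScalarRightHom_tmul, Algebra.smul_def, map_sum, Finset.sum_mul, map_mul]
      exact Finset.sum_congr rfl fun j _ => by ring
    | add a b ha hb => simp only [map_add, ha, hb, Pi.add_apply, add_mul, Finset.sum_add_distrib]
  obtain ⟨w, hw⟩ := (hex (e.symm u)).1 ((Algebra.TensorProduct.rid A S S).injective (by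
    rw [he, LinearEquiv.apply_symm_apply, hu, map_zero]))
  show u ∈ triv _
  rw [← e.apply_symm_apply u, ← hw]
  clear hw
  induction w using TensorProduct.induction_on with
  | zero => rw [map_zero, map_zero]; exact zero_mem _
  | tmul b v =>
    have hv : ∑ i, v.1 i * f i = 0 := by
      have : φ v.1 = 0 := v.2
      simpa only [φ, Fintype.linearCombination_apply, smul_eq_mul] using this
    have h1 : e (LinearMap.lTensor S (LinearMap.ker φ).subtype (b ⊗ₜ v)) = b • fun i => algebraMap A S (v.1 i) := by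
      funext i
      rw [LinearMap.lTensor_tmul]
      simp only [e, TensorProduct.piScalarRight_apply, TensorProduct.piScalarRightHom_tmul, Algebra.smul_def,
        Pi.smul_apply, Submodule.coe_subtype, Algebra.algebraMap_self, RingHom.id_apply]
      simp [mul_comm, smul_eq_mul]
    rw [h1]
    exact Submodule.smul_mem _ b (comp_mem_triv (hf _ hv))
  | add a b ha hb => rw [map_add, map_add]; exact add_mem ha hb

/-- A relation that becomes trivial over `S` dies in `S ⊗ (Aᶜ / triv)`. -/
theorem one_tmul_mk_eq_zero (f a : Fin c → A)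
    (ha : (fun i => algebraMap A S (a i)) ∈ triv fun i => algebraMap A S (f i)) :
    (1 : S) ⊗ₜ[A] (Submodule.mkQ (triv f) a) = 0 := by
  classical
  let e := TensorProduct.piScalarRight A S S (Fin c)
  let ψ : S ⊗[A] (Fin c → A) →ₗ[A] S ⊗[A] ((Fin c → A) ⧸ triv f) := (triv f).mkQ.lTensor S
  have he : ∀ v : Fin c → A, e ((1 : S) ⊗ₜ[A] v) = fun i => algebraMap A S (v i) := fun v => funext fun i => by
    simp [e, Algebra.smul_def]
  let N : Submodule S (Fin c → S) :=
    LinearMap.ker ((TensorProduct.AlgebraTensorModule.lTensor S S (triv f).mkQ).comp e.symm.toLinearMap)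
  have hle : (triv fun i => algebraMap A S (f i)) ≤ N := by
    refine Submodule.span_le.2 ?_
    rintro _ ⟨i, j, rfl⟩
    have h1 : (Pi.single i (algebraMap A S (f j)) - Pi.single j (algebraMap A S (f i)) : Fin c → S) =
        e ((1 : S) ⊗ₜ[A] (Pi.single i (f j) - Pi.single j (f i) : Fin c → A)) := by
      rw [he]
      funext k
      simp only [Pi.sub_apply, map_sub, Pi.single_apply, apply_ite (algebraMap A S), map_zero]
    show _ = (0 : S ⊗[A] ((Fin c → A) ⧸ triv f))
    rw [h1, LinearMap.comp_apply, LinearEquiv.coe_coe, LinearEquiv.symm_apply_apply]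
    show (1 : S) ⊗ₜ[A] (triv f).mkQ _ = 0
    simp [(Submodule.Quotient.mk_eq_zero (triv f)).2 (show (Pi.single i (f j) - Pi.single j (f i) : Fin c → A) ∈ triv f from
      Submodule.subset_span ⟨i, j, rfl⟩)]
  have := hle ha
  rw [← he] at this
  simp only [N, LinearMap.mem_ker, LinearMap.comp_apply, LinearEquiv.coe_coe, LinearEquiv.symm_apply_apply] at this
  exact this

/-- `H_1`-regularity descends along faithfully flat maps. -/
theorem h1_of_faithfullyFlat [Module.FaithfullyFlat A S] {f : Fin c → A}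
    (hf : CAlgX.IsH1Regular fun i => algebraMap A S (f i)) : CAlgX.IsH1Regular f := by
  intro a ha
  have h1 := one_tmul_mk_eq_zero (S := S) f a (hf _ (by rw [← map_zero (algebraMap A S), ← ha, map_sum]; simp [map_mul]))
  exact (Submodule.Quotient.mk_eq_zero (triv f)).1
    (Module.FaithfullyFlat.tensorProduct_mk_injective (A := A) (B := S) ((Fin c → A) ⧸ triv f)
      (h1.trans (TensorProduct.tmul_zero _ 1).symm))

/-- A sequence generating the unit ideal is `H_1`-regular. -/
theorem h1_of_span_eq_top {f : Fin c → A} (h : Ideal.span (Set.range f) = ⊤) : CAlgX.IsH1Regular f := by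
  classical
  obtain ⟨v, hv⟩ := Ideal.mem_span_range_iff_exists_fun.1 (h ▸ Submodule.mem_top : (1 : A) ∈ Ideal.span (Set.range f))
  intro a ha
  have he : a = ∑ i, ∑ j, (a i * v j) • (Pi.single i (f j) - Pi.single j (f i) : Fin c → A) := by
    funext k
    simp only [Finset.sum_apply, Pi.smul_apply, Pi.sub_apply, smul_eq_mul, mul_sub, Finset.sum_sub_distrib,
      Pi.single_apply, mul_ite, mul_zero]
    have h1 : ∑ i, ∑ j, (if k = i then a i * v j * f j else 0) = a k := by
      rw [Finset.sum_eq_single k (fun i _ hi => Finset.sum_eq_zero fun j _ => if_neg (Ne.symm hi)) (by simp)]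
      simp only [if_true, mul_assoc, ← Finset.mul_sum, hv, mul_one]
    have h2 : ∑ i, ∑ j, (if k = j then a i * v j * f i else 0) = 0 := by
      simp only [Finset.sum_ite_eq, Finset.mem_univ, if_true]
      calc ∑ i, a i * v k * f i = v k * ∑ i, a i * f i := by
            rw [Finset.mul_sum]; exact Finset.sum_congr rfl fun i _ => by ring
        _ = 0 := by rw [ha, mul_zero]
    rw [h1, h2, sub_zero]
  rw [he]
  exact sum_mem fun i _ => sum_mem fun j _ => Submodule.smul_mem _ _ (Submodule.subset_span ⟨i, j, rfl⟩)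

/-- `H_1`-regularity is local. -/
theorem h1_of_forall_away {f : Fin c → A} (h : ∀ (Q : Ideal A) [Q.IsPrime], ∃ G : A, G ∉ Q ∧
    CAlgX.IsH1Regular fun i => algebraMap A (Localization.Away G) (f i)) : CAlgX.IsH1Regular f := by
  intro a ha
  by_contra hne
  let M := (Fin c → A) ⧸ triv f
  obtain ⟨Q, hQ, hle⟩ := Ideal.exists_le_maximal (LinearMap.ker (LinearMap.toSpanSingleton A M ((triv f).mkQ a)))
    fun htop => hne ((Submodule.Quotient.mk_eq_zero (triv f)).1 (by
      have : (1 : A) • (triv f).mkQ a = 0 := LinearMap.mem_ker.1 (htop ▸ Submodule.mem_top)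
      rwa [one_smul] at this))
  haveI := hQ.isPrime
  obtain ⟨G, hG, hh⟩ := h Q
  let T := Localization.Away G
  have h1 := one_tmul_mk_eq_zero (S := T) f a (hh _ (by rw [← map_zero (algebraMap A T), ← ha, map_sum]; exact Finset.sum_congr rfl fun x _ => (map_mul _ _ _).symm))
  haveI : IsLocalizedModule (Submonoid.powers G) (TensorProduct.mk A T M 1) :=
    (isLocalizedModule_iff_isBaseChange (Submonoid.powers G) T _).2 (TensorProduct.isBaseChange A M T)
  obtain ⟨⟨_, n, rfl⟩, hn⟩ := (IsLocalizedModule.eq_zero_iff (Submonoid.powers G) (TensorProduct.mk A T M 1)).1 h1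
  exact hG (hQ.isPrime.mem_of_pow_mem n (hle (LinearMap.mem_ker.2 hn)))

/-- Near a prime, `H_1`-regularity does not depend on a minimal generating sequence. -/
theorem h1_nhd {n : ℕ} (e y : Fin n → A) (Q : Ideal A) [Q.IsPrime] (he : CAlgX.IsH1Regular e)
    (hspan : Ideal.span (Set.range y) = Ideal.span (Set.range e)) (hle : Ideal.span (Set.range e) ≤ Q) :
    ∃ G : A, G ∉ Q ∧ CAlgX.IsH1Regular fun i => algebraMap A (Localization.Away G) (y i) := by
  classical
  have hM : ∀ i, ∃ m : Fin n → A, ∑ j, m j * e j = y i := fun i =>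
    Ideal.mem_span_range_iff_exists_fun.1 (hspan ▸ Ideal.subset_span ⟨i, rfl⟩)
  have hN : ∀ j, ∃ m : Fin n → A, ∑ i, m i * y i = e j := fun j =>
    Ideal.mem_span_range_iff_exists_fun.1 (hspan.symm ▸ Ideal.subset_span ⟨j, rfl⟩)
  choose M hM using hM
  choose N hN using hN
  let MM : Matrix (Fin n) (Fin n) A := Matrix.of M
  let NN : Matrix (Fin n) (Fin n) A := Matrix.of N
  let q := Ideal.Quotient.mk Q
  have h1 : NN.map q * MM.map q = 1 := by
    rw [← Matrix.map_mul, ← Matrix.map_one q (map_zero q) (map_one q)]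
    ext i l
    simp only [Matrix.map_apply]
    refine Ideal.Quotient.eq.2 (hle (coeff_mem_of_h1 e he
      (fun l => (NN * MM) i l - (1 : Matrix (Fin n) (Fin n) A) i l) ?_ l))
    have hzero : ∑ l, ((NN * MM) i l - (1 : Matrix (Fin n) (Fin n) A) i l) * e l = 0 := by
      simp only [sub_mul, Finset.sum_sub_distrib, Matrix.mul_apply, Finset.sum_mul, MM, NN, Matrix.of_apply,
        Matrix.one_apply, ite_mul, one_mul, zero_mul, Finset.sum_ite_eq, Finset.mem_univ, if_true, mul_assoc]
      rw [Finset.sum_comm]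
      simp only [← Finset.mul_sum, hN, hM, sub_self]
    rw [hzero]
    exact zero_mem _
  have hdet : MM.det ∉ Q := fun h => by
    have h2 := congrArg Matrix.det h1
    rw [Matrix.det_mul, Matrix.det_one, ← RingHom.mapMatrix_apply q MM, ← RingHom.map_det,
      Ideal.Quotient.eq_zero_iff_mem.2 h, mul_zero] at h2
    exact (inferInstance : Q.IsPrime).ne_top ((Ideal.eq_top_iff_one Q).2 (Ideal.Quotient.eq_zero_iff_mem.1
      (by rw [map_one]; exact h2.symm)))
  refine ⟨MM.det, hdet, ?_⟩
  let T := Localization.Away MM.det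
  refine isH1Regular_of_matrix _ _ (isH1Regular_localization (Submonoid.powers MM.det) e he)
    ((algebraMap A T).mapMatrix MM) ?_ (funext fun i => ?_)
  · rw [← RingHom.map_det]
    exact IsLocalization.Away.algebraMap_isUnit MM.det
  · show algebraMap A T (y i) = ∑ x, algebraMap A T (M i x) * algebraMap A T (e x)
    rw [← hM i, map_sum]
    exact Finset.sum_congr rfl fun x _ => map_mul _ _ _

/-! ## Both kinds -/

theorem seqP_flat {k : RegImm.Kind} [Module.Flat A S] {f : Fin c → A} (hf : SeqP k f) :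
    SeqP k fun i => algebraMap A S (f i) := by
  rcases hf with ⟨hk, h⟩ | ⟨hk, h⟩
  · exact Or.inl ⟨hk, h1_flat h⟩
  · exact Or.inr ⟨hk, qr_flat h⟩

theorem seqP_of_faithfullyFlat {k : RegImm.Kind} [Module.FaithfullyFlat A S] {f : Fin c → A}
    (hf : SeqP k fun i => algebraMap A S (f i)) : SeqP k f := by
  rcases hf with ⟨hk, h⟩ | ⟨hk, h⟩
  · exact Or.inl ⟨hk, h1_of_faithfullyFlat h⟩
  · exact Or.inr ⟨hk, qr_of_faithfullyFlat h⟩

theorem seqP_of_span_eq_top {k : RegImm.Kind} (hk : k = .h1 ∨ k = .quasi) {f : Fin c → A}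
    (h : Ideal.span (Set.range f) = ⊤) : SeqP k f := by
  rcases hk with hk | hk
  · exact Or.inl ⟨hk, h1_of_span_eq_top h⟩
  · exact Or.inr ⟨hk, qr_of_span_eq_top h⟩

theorem seqP_of_forall_away {k : RegImm.Kind} (hk : k = .h1 ∨ k = .quasi) {f : Fin c → A}
    (h : ∀ (Q : Ideal A) [Q.IsPrime], ∃ G : A, G ∉ Q ∧ SeqP k fun i => algebraMap A (Localization.Away G) (f i)) :
    SeqP k f := by
  rcases hk with rfl | rfl
  · refine Or.inl ⟨rfl, h1_of_forall_away fun Q _ => ?_⟩
    obtain ⟨G, hG, ⟨-, h'⟩ | ⟨hn, -⟩⟩ := h Q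
    · exact ⟨G, hG, h'⟩
    · cases hn
  · refine Or.inr ⟨rfl, qr_of_forall_away fun Q _ => ?_⟩
    obtain ⟨G, hG, ⟨hn, -⟩ | ⟨-, h'⟩⟩ := h Q
    · cases hn
    · exact ⟨G, hG, h'⟩

/-- Near the prime the ideal is generated by a sequence of the given kind. -/
def Near (k : RegImm.Kind) (J P : Ideal A) : Prop :=
  ∃ g : A, g ∉ P ∧ ∃ (r : ℕ) (f : Fin r → Localization.Away g),
    SeqP k f ∧ Ideal.span (Set.range f) = J.map (algebraMap A (Localization.Away g))

theorem Near.exists_on {k : RegImm.Kind} {J P : Ideal A} (h : Near k J P) :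
    ∃ g : A, g ∉ P ∧ ∀ (T : Type u) [CommRing T] [Algebra A T] [Module.Flat A T], IsUnit (algebraMap A T g) →
      ∃ (r : ℕ) (f : Fin r → T), SeqP k f ∧ Ideal.span (Set.range f) = J.map (algebraMap A T) := by
  obtain ⟨g, hg, r, f, hf, hI⟩ := h
  refine ⟨g, hg, fun T _ _ _ hu => ?_⟩
  letI : Algebra (Localization.Away g) T := (IsLocalization.Away.lift g hu).toAlgebra
  haveI : IsScalarTower A (Localization.Away g) T := IsScalarTower.of_algebraMap_eq fun x => by
    rw [RingHom.algebraMap_toAlgebra, IsLocalization.Away.lift_eq]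
  haveI : Module.Flat (Localization.Away g) T :=
    (Module.flat_iff_of_isLocalization (Localization.Away g) (Submonoid.powers g) T).2 inferInstance
  refine ⟨r, fun i => algebraMap _ T (f i), seqP_flat hf, ?_⟩
  rw [← map_span_range, hI, Ideal.map_map, ← IsScalarTower.algebraMap_eq]

theorem fg_of_near {k : RegImm.Kind} (I : Ideal A) (h : ∀ Q : Ideal A, Q.IsPrime → I ≤ Q → Near k I Q) : I.FG := by
  let t : Set A := {g | (I.map (algebraMap A (Localization.Away g))).FG}
  refine Ideal.fg_of_localizationSpan t ?_ fun g => g.2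
  by_contra hne
  obtain ⟨m, hm, hle⟩ := Ideal.exists_le_maximal _ hne
  haveI := hm.isPrime
  by_cases hIm : I ≤ m
  · obtain ⟨g, hg, r, f, -, hI⟩ := h m inferInstance hIm
    refine hg (hle (Ideal.subset_span ?_))
    show (I.map _).FG
    rw [← hI]
    exact Submodule.fg_span (Set.finite_range f)
  · obtain ⟨g, hgI, hgm⟩ := SetLike.not_le_iff_exists.1 hIm
    refine hgm (hle (Ideal.subset_span ?_))
    show (I.map (algebraMap A (Localization.Away g))).FG
    rw [Ideal.eq_top_of_isUnit_mem _ (Ideal.mem_map_of_mem _ hgI) (IsLocalization.Away.algebraMap_isUnit g)]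
    exact ⟨{1}, by simp⟩

theorem exists_seqP_nhd {k : RegImm.Kind} (Q : Ideal A) [Q.IsPrime] {r : ℕ} (y : Fin r → A) (hy : ∀ i, y i ∈ Q)
    (hK : Near k (Ideal.span (Set.range y)) Q) (hind : ∀ u : Fin r → A, ∑ i, u i * y i = 0 → ∀ i, u i ∈ Q) :
    ∃ G : A, G ∉ Q ∧ SeqP k fun i => algebraMap A (Localization.Away G) (y i) := by
  classical
  obtain ⟨g, hg, n, e, he, heJ⟩ := hK
  rcases he with ⟨hk, he⟩ | ⟨hk, he⟩
  swap
  · obtain ⟨G, hG, h⟩ := exists_qr_nhd Q y hy ⟨g, hg, n, e, he, heJ⟩ hind
    exact ⟨G, hG, Or.inr ⟨hk, h⟩⟩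
  rw [map_span_range] at heJ
  let T := Localization.Away g
  obtain ⟨hprime, hcomap⟩ := KRegLib.exists_prime_of_away T Q hg
  haveI := hprime
  let QT := Q.map (algebraMap A T)
  have hle : Ideal.span (Set.range e) ≤ QT := by
    rw [heJ]
    exact Ideal.span_le.2 (Set.range_subset_iff.2 fun i => Ideal.mem_map_of_mem _ (hy i))
  obtain rfl : r = n := card_eq_of_minimal QT _ e heJ.symm (fun u hu i => by
    obtain ⟨s, hs⟩ := IsLocalization.exist_integer_multiples_of_finite (Submonoid.powers g) u
    choose v hv using hs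
    have h1 : algebraMap A T (∑ j, v j * y j) = 0 := by
      rw [map_sum, ← mul_zero (algebraMap A T s), ← hu, Finset.mul_sum]
      exact Finset.sum_congr rfl fun j _ => by rw [map_mul, hv, Algebra.smul_def, mul_assoc]
    obtain ⟨⟨s', hs'⟩, hs0⟩ := (IsLocalization.map_eq_zero_iff (Submonoid.powers g) T _).1 h1
    have hv' := hind (fun j => s' * v j) (by simpa only [Finset.mul_sum, mul_assoc] using hs0) i
    have hnot : s' ∉ Q := by
      obtain ⟨k, rfl⟩ := hs'
      exact fun hk => hg (Ideal.IsPrime.mem_of_pow_mem inferInstance k hk)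
    have h2 : algebraMap A T (v i) ∈ QT :=
      Ideal.mem_map_of_mem _ ((Ideal.IsPrime.mem_or_mem inferInstance hv').resolve_left hnot)
    rwa [hv, Algebra.smul_def, Ideal.unit_mul_mem_iff_mem _ (IsLocalization.map_units T s)] at h2)
    fun u hu i => hle (coeff_mem_of_h1 e he u (by rw [hu]; exact zero_mem _) i)
  obtain ⟨d, hd, hh⟩ := h1_nhd e _ QT he heJ.symm hle
  let T' := Localization.Away d
  obtain ⟨G, hG, hGT⟩ := KRegLib.exists_away_away T Q hg d hd T'
  haveI := hGT
  let eq : T' ≃ₐ[A] Localization.Away G := IsLocalization.algEquiv (Submonoid.powers G) _ _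
  letI : Algebra T' (Localization.Away G) := eq.toAlgHom.toRingHom.toAlgebra
  haveI : Module.Flat T' (Localization.Away G) := RingHom.Flat.of_bijective (f := eq.toAlgHom.toRingHom) eq.bijective
  refine ⟨G, hG, Or.inl ⟨hk, ?_⟩⟩
  have hfl := h1_flat (S := Localization.Away G) hh
  have hcomm : ∀ a : A, algebraMap T' (Localization.Away G) (algebraMap T T' (algebraMap A T a)) =
      algebraMap A (Localization.Away G) a := fun a => by
    rw [← IsScalarTower.algebraMap_apply A T T']
    exact eq.commutes a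
  rw [show (fun i => algebraMap A (Localization.Away G) (y i)) =
    fun i => algebraMap T' (Localization.Away G) (algebraMap T T' (algebraMap A T (y i))) from funext fun i => (hcomm _).symm]
  exact hfl

/-- The core of faithfully flat descent. -/
theorem exists_seqP_of_ff {k : RegImm.Kind} (hk : k = .h1 ∨ k = .quasi) {A B : Type u} [CommRing A] [CommRing B] [Algebra A B] [Module.FaithfullyFlat A B]
    {r : ℕ} (x : Fin r → A) (p : Ideal A) [p.IsPrime]
    (hind : ∀ u : Fin r → A, ∑ i, u i * x i = 0 → ∀ i, u i ∈ p) (hxp : ∀ i, x i ∈ p)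
    (hK : ∀ Q : Ideal B, Q.IsPrime → (∀ i, algebraMap A B (x i) ∈ Q) →
      Near k (Ideal.span (Set.range fun i => algebraMap A B (x i))) Q) :
    ∃ g : A, g ∉ p ∧ SeqP k fun i => algebraMap A (Localization.Away g) (x i) := by
  classical
  let al := algebraMap A B
  let y : Fin r → B := fun i => al (x i)
  let Good : PrimeSpectrum B → Prop := fun Q =>
    ∃ G : B, G ∉ Q.asIdeal ∧ SeqP k fun i => algebraMap B (Localization.Away G) (y i)
  -- the coefficients of relations
  let C : Ideal A := Ideal.span {c | ∃ u : Fin r → A, ∑ i, u i * x i = 0 ∧ ∃ i, u i = c}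
  have hCp : C ≤ p := Ideal.span_le.2 fun c ⟨u, hu, i, hi⟩ => hi ▸ hind u hu i
  let φ : (Fin r → A) →ₗ[A] A := Fintype.linearCombination A x
  have hrel : ∀ u : Fin r → B, ∑ i, u i * y i = 0 → ∀ i, u i ∈ C.map al := by
    intro u hu i
    refine Ideal.map_mono (Ideal.span_le.2 ?_) (coeff_mem_of_rel x u hu i)
    rintro _ ⟨v, hv, rfl⟩
    exact Ideal.subset_span ⟨v, hv, i, rfl⟩
  have hy : ∀ {Q : PrimeSpectrum B}, (∀ i, y i ∈ Q.asIdeal) → (Good Q ↔ C.map al ≤ Q.asIdeal) := by
    intro Q hQ
    refine ⟨fun ⟨G, hG, hex⟩ => ?_, fun hC => ?_⟩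
    · rw [Ideal.map_le_iff_le_comap]
      refine Ideal.span_le.2 fun c ⟨u, hu, i, hi⟩ => ?_
      subst hi
      have h1 := seqP_rel _ hex (fun i => algebraMap B (Localization.Away G) (al (u i))) (by
        simp only [y, ← map_mul, ← map_sum, hu, map_zero]) i
      obtain ⟨hQ', hQc⟩ := exists_prime_of_away (Localization.Away G) Q.asIdeal hG
      show al (u i) ∈ Q.asIdeal
      rw [← hQc]
      exact Ideal.span_le.2 (Set.range_subset_iff.2 fun j =>
        Ideal.mem_map_of_mem (algebraMap B (Localization.Away G)) (hQ j)) h1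
    · exact exists_seqP_nhd Q.asIdeal y hQ (hK Q.asIdeal Q.2 hQ) fun u hu i => hC (hrel u hu i)
  let bad : Set (PrimeSpectrum B) := {Q | (∀ i, y i ∈ Q.asIdeal) ∧ ¬ Good Q}
  have hbad : IsClosed bad := by
    rw [← isOpen_compl_iff]
    refine isOpen_iff_forall_mem_open.2 fun Q hQ => ?_
    by_cases hy' : ∀ i, y i ∈ Q.asIdeal
    · obtain ⟨G, hG, hex⟩ := not_not.1 fun h => hQ ⟨hy', h⟩
      exact ⟨PrimeSpectrum.basicOpen G, fun Q' hQ' h' => h'.2 ⟨G, hQ', hex⟩, PrimeSpectrum.isOpen_basicOpen, hG⟩
    · push_neg at hy'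
      obtain ⟨i, hi⟩ := hy'
      exact ⟨PrimeSpectrum.basicOpen (y i), fun Q' hQ' h' => hQ' (h'.1 i), PrimeSpectrum.isOpen_basicOpen, hi⟩
  have hst : StableUnderSpecialization (PrimeSpectrum.comap al '' bad) := by
    rintro a b hab ⟨Qa, hQa, rfl⟩
    rw [← PrimeSpectrum.le_iff_specializes] at hab
    obtain ⟨Qb, rfl⟩ := PrimeSpectrum.comap_surjective_of_faithfullyFlat (A := A) (B := B) b
    haveI := Qb.2
    haveI : Qb.asIdeal.LiesOver (Qb.asIdeal.comap al) := ⟨rfl⟩
    obtain ⟨Q', hle, hQ', hover⟩ := Ideal.exists_ideal_le_liesOver_of_le Qb.asIdeal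
      (p := (PrimeSpectrum.comap al Qa).asIdeal) (q := Qb.asIdeal.comap al) hab
    haveI := hQ'
    have hc : Q'.comap al = Qa.asIdeal.comap al := hover.over.symm
    have hyQ' : ∀ i, y i ∈ Q' := fun i => by
      show x i ∈ Q'.comap al
      rw [hc]
      exact hQa.1 i
    refine ⟨Qb, ⟨fun i => hle (hyQ' i), fun hgood => hQa.2 ?_⟩, rfl⟩
    have hQ'good : Good ⟨Q', hQ'⟩ := by
      obtain ⟨G, hG, hex⟩ := hgood
      exact ⟨G, fun h => hG (hle h), hex⟩
    rw [hy hyQ', Ideal.map_le_iff_le_comap] at hQ'good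
    rw [hy hQa.1, Ideal.map_le_iff_le_comap, ← hc]
    exact hQ'good
  have hcl := PrimeSpectrum.isClosed_image_of_stableUnderSpecialization al bad hbad hst
  have hp : (⟨p, inferInstance⟩ : PrimeSpectrum A) ∉ PrimeSpectrum.comap al '' bad := by
    rintro ⟨Q, hQ, hQp⟩
    have hQp' : Q.asIdeal.comap al = p := congrArg PrimeSpectrum.asIdeal hQp
    refine hQ.2 ((hy hQ.1).2 ?_)
    rw [Ideal.map_le_iff_le_comap, hQp']
    exact hCp
  obtain ⟨_, ⟨_, ⟨g, rfl⟩, rfl⟩, hgp, hg⟩ :=
    PrimeSpectrum.isBasis_basic_opens.exists_subset_of_mem_open hp hcl.isOpen_compl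
  refine ⟨g, hgp, ?_⟩
  let T := Localization.Away g
  let B' := T ⊗[A] B
  letI : Algebra B B' := Algebra.TensorProduct.rightAlgebra
  haveI : Module.Flat B B' := Module.Flat.isBaseChange A B T B' (Algebra.IsPushout.out (R := A) (S := B) (R' := T) (S' := B'))
  refine seqP_of_faithfullyFlat (S := B') (seqP_of_forall_away hk fun Q' _ => ?_)
  have hcm : ∀ a : A, algebraMap T B' (algebraMap A T a) = algebraMap B B' (al a) := fun a => by
    rw [← IsScalarTower.algebraMap_apply A T B', ← IsScalarTower.algebraMap_apply A B B']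
  let Q : PrimeSpectrum B := ⟨Q'.comap (algebraMap B B'), inferInstance⟩
  by_cases hyQ : ∀ i, y i ∈ Q.asIdeal
  · have hgQ : al g ∉ Q.asIdeal := fun h => by
      have : IsUnit (algebraMap T B' (algebraMap A T g)) := (IsLocalization.Away.algebraMap_isUnit g).map _
      rw [hcm] at this
      exact (inferInstance : Q'.IsPrime).ne_top (Ideal.eq_top_of_isUnit_mem _ h this)
    have hnb : Q ∉ bad := fun hb => hg (show PrimeSpectrum.comap al Q ∈ _ from hgQ) ⟨Q, hb, rfl⟩
    obtain ⟨G, hG, hex⟩ := not_not.1 fun h => hnb ⟨hyQ, h⟩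
    let G' := algebraMap B B' G
    let T' := Localization.Away G'
    haveI : Module.Flat B T' := Module.Flat.trans B B' T'
    have hu : IsUnit (algebraMap B T' G) := by
      rw [IsScalarTower.algebraMap_apply B B' T']
      exact IsLocalization.Away.algebraMap_isUnit G'
    letI : Algebra (Localization.Away G) T' := (IsLocalization.Away.lift G hu).toAlgebra
    haveI : IsScalarTower B (Localization.Away G) T' := IsScalarTower.of_algebraMap_eq fun x => by
      rw [RingHom.algebraMap_toAlgebra, IsLocalization.Away.lift_eq]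
    haveI : Module.Flat (Localization.Away G) T' :=
      (Module.flat_iff_of_isLocalization (Localization.Away G) (Submonoid.powers G) T').2 inferInstance
    have hex' := seqP_flat (S := T') hex
    simp only [← IsScalarTower.algebraMap_apply B (Localization.Away G) T'] at hex'
    refine ⟨G', hG, ?_⟩
    have he : (fun i => algebraMap B' T' (algebraMap T B' (algebraMap A T (x i)))) = fun i => algebraMap B T' (y i) :=
      funext fun i => by rw [hcm, ← IsScalarTower.algebraMap_apply B B' T']
    rw [he]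
    exact hex'
  · push_neg at hyQ
    obtain ⟨i, hi⟩ := hyQ
    let G' := algebraMap B B' (y i)
    refine ⟨G', hi, seqP_of_span_eq_top hk (Ideal.eq_top_of_isUnit_mem _ (Ideal.subset_span ⟨i, rfl⟩) ?_)⟩
    show IsUnit (algebraMap B' (Localization.Away G') (algebraMap T B' (algebraMap A T (x i))))
    rw [show algebraMap T B' (algebraMap A T (x i)) = G' from hcm (x i)]
    exact IsLocalization.Away.algebraMap_isUnit G'

/-- An ideal whose extension to a faithfully flat algebra is locally quasi-regular is locally quasi-regular. -/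
theorem near_of_faithfullyFlat {k : RegImm.Kind} (hk : k = .h1 ∨ k = .quasi) {A B : Type u} [CommRing A] [CommRing B] [Algebra A B]
    [Module.FaithfullyFlat A B] (I : Ideal A) (hK : ∀ Q : Ideal B, Q.IsPrime → I.map (algebraMap A B) ≤ Q → Near k (I.map (algebraMap A B)) Q)
    (p : Ideal A) [hp : p.IsPrime] (hIp : I ≤ p) : Near k I p := by
  classical
  have hfg : I.FG := Ideal.FG.of_FG_map_of_faithfullyFlat (S := B) (fg_of_near _ hK)
  let A' := Localization.AtPrime p
  obtain ⟨n₀, z, hz⟩ := Submodule.fg_iff_exists_fin_generating_family.1 hfg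
  have hexgen : ∃ r, ∃ x : Fin r → A, (∀ i, x i ∈ I) ∧
      ∃ g : A, g ∉ p ∧ ∀ a ∈ I, g * a ∈ Ideal.span (Set.range x) :=
    ⟨n₀, z, fun i => hz ▸ Submodule.subset_span ⟨i, rfl⟩, 1, p.one_notMem,
      fun a ha => by rw [one_mul]; exact hz.ge ha⟩
  obtain ⟨r, ⟨x, hxI, g, hg, hgx⟩, hmin⟩ : ∃ r, (∃ x : Fin r → A, (∀ i, x i ∈ I) ∧
      ∃ g : A, g ∉ p ∧ ∀ a ∈ I, g * a ∈ Ideal.span (Set.range x)) ∧ ∀ r' < r, ¬ ∃ x : Fin r' → A, (∀ i, x i ∈ I) ∧
      ∃ g : A, g ∉ p ∧ ∀ a ∈ I, g * a ∈ Ideal.span (Set.range x) :=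
    ⟨Nat.find hexgen, Nat.find_spec hexgen, fun r' h => Nat.find_min hexgen h⟩
  have hind : ∀ u : Fin r → A, ∑ i, u i * x i = 0 → ∀ i, u i ∈ p := by
    intro u hu i
    by_contra hi
    obtain ⟨r', rfl⟩ : ∃ r', r = r' + 1 := ⟨r - 1, by have := i.2; omega⟩
    refine hmin r' (by omega) ⟨fun j => x (i.succAbove j), fun j => hxI _, u i * g,
      fun h => (hp.mem_or_mem h).elim hi hg, fun a ha => ?_⟩
    obtain ⟨v, hv⟩ := Ideal.mem_span_range_iff_exists_fun.1 (hgx a ha)
    rw [mul_assoc, ← hv, Finset.mul_sum]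
    refine Ideal.sum_mem _ fun j _ => ?_
    by_cases hj : j = i
    · subst hj
      rw [← Finset.add_sum_erase _ _ (Finset.mem_univ j)] at hu
      rw [mul_left_comm, eq_neg_of_add_eq_zero_left hu]
      refine Ideal.mul_mem_left _ _ (neg_mem (Ideal.sum_mem _ fun k hk => ?_))
      obtain ⟨m, rfl⟩ := Fin.exists_succAbove_eq (Finset.ne_of_mem_erase hk)
      exact Ideal.mul_mem_left _ _ (Ideal.subset_span ⟨m, rfl⟩)
    · obtain ⟨m, rfl⟩ := Fin.exists_succAbove_eq hj
      exact Ideal.mul_mem_left _ _ (Ideal.mul_mem_left _ _ (Ideal.subset_span ⟨m, rfl⟩))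
  let T := Localization.Away g
  let B' := T ⊗[A] B
  letI : Algebra B B' := Algebra.TensorProduct.rightAlgebra
  haveI : Module.Flat B B' := Module.Flat.isBaseChange A B T B' (Algebra.IsPushout.out (R := A) (S := B) (R' := T) (S' := B'))
  let xT : Fin r → T := fun i => algebraMap A T (x i)
  have hspan : Ideal.span (Set.range xT) = I.map (algebraMap A T) := by
    refine le_antisymm (Ideal.span_le.2 (Set.range_subset_iff.2 fun i => Ideal.mem_map_of_mem _ (hxI i)))
      (Ideal.map_le_iff_le_comap.2 fun a ha => ?_)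
    rw [Ideal.mem_comap, ← Ideal.unit_mul_mem_iff_mem _ (IsLocalization.Away.algebraMap_isUnit (S := T) g), ← map_mul]
    have := Ideal.mem_map_of_mem (algebraMap A T) (hgx a ha)
    rwa [Ideal.map_span, ← Set.range_comp] at this
  have hB' : Ideal.span (Set.range fun i => algebraMap T B' (xT i)) =
      (I.map (algebraMap A B)).map (algebraMap B B') := by
    have h1 : Ideal.span (Set.range fun i => algebraMap T B' (xT i)) =
        (Ideal.span (Set.range xT)).map (algebraMap T B') := by
      rw [Ideal.map_span, ← Set.range_comp]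
      rfl
    rw [h1, hspan, Ideal.map_map, Ideal.map_map, ← IsScalarTower.algebraMap_eq A T B',
      ← IsScalarTower.algebraMap_eq A B B']
  obtain ⟨hpT, hpc⟩ := exists_prime_of_away T p hg
  let pT := p.map (algebraMap A T)
  obtain ⟨h, hh, hex⟩ := exists_seqP_of_ff hk (A := T) (B := B') xT pT (fun u hu i => by
      obtain ⟨s, hs⟩ := IsLocalization.exist_integer_multiples_of_finite (Submonoid.powers g) u
      choose v hv using hs
      have h1 : algebraMap A T (∑ j, v j * x j) = 0 := by
        rw [map_sum, ← mul_zero (algebraMap A T s), ← hu, Finset.mul_sum]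
        exact Finset.sum_congr rfl fun j _ => by rw [map_mul, hv, Algebra.smul_def, mul_assoc]
      obtain ⟨⟨s', hs'⟩, hs0⟩ := (IsLocalization.map_eq_zero_iff (Submonoid.powers g) T _).1 h1
      have hv' := hind (fun j => s' * v j) (by simpa only [Finset.mul_sum, mul_assoc] using hs0) i
      have hnot : s' ∉ p := by
        obtain ⟨k, rfl⟩ := hs'
        exact fun hk => hg (hp.mem_of_pow_mem k hk)
      have h2 : algebraMap A T (v i) ∈ pT := Ideal.mem_map_of_mem _ ((hp.mem_or_mem hv').resolve_left hnot)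
      rwa [hv, Algebra.smul_def, Ideal.unit_mul_mem_iff_mem _ (IsLocalization.map_units T s)] at h2)
    (fun i => Ideal.mem_map_of_mem _ (hIp (hxI i))) (fun Q hQ hxQ => by
      haveI := hQ
      rw [hB']
      have hle : I.map (algebraMap A B) ≤ Q.comap (algebraMap B B') := by
        rw [← Ideal.map_le_iff_le_comap, ← hB']
        exact Ideal.span_le.2 (Set.range_subset_iff.2 hxQ)
      obtain ⟨g₀, hg₀, hon⟩ := Near.exists_on (hK (Q.comap (algebraMap B B')) inferInstance hle)
      let T₀ := Localization.Away (algebraMap B B' g₀)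
      haveI : Module.Flat B T₀ := Module.Flat.trans B B' T₀
      obtain ⟨r₀, f₀, hf₀, hI₀⟩ := hon T₀ (by
        rw [IsScalarTower.algebraMap_apply B B' T₀]
        exact IsLocalization.Away.algebraMap_isUnit (algebraMap B B' g₀))
      refine ⟨algebraMap B B' g₀, hg₀, r₀, f₀, hf₀, ?_⟩
      rw [hI₀, IsScalarTower.algebraMap_eq B B' T₀, ← Ideal.map_map])
  let T' := Localization.Away h
  obtain ⟨G, hG, hGT⟩ := Groth.Agent.KRegLib.exists_away_away T p hg h hh T'
  haveI := hGT
  let eq : T' ≃ₐ[A] Localization.Away G := IsLocalization.algEquiv (Submonoid.powers G) _ _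
  letI : Algebra T' (Localization.Away G) := eq.toAlgHom.toRingHom.toAlgebra
  haveI : Module.Flat T' (Localization.Away G) := RingHom.Flat.of_bijective (f := eq.toAlgHom.toRingHom) eq.bijective
  refine ⟨G, hG, r, fun i => algebraMap T' (Localization.Away G) (algebraMap T T' (xT i)), seqP_flat hex, ?_⟩
  rw [← map_span_range (fun i => algebraMap T T' (xT i)), ← map_span_range xT, hspan, Ideal.map_map,
    Ideal.map_map, RingHom.comp_assoc, ← IsScalarTower.algebraMap_eq A T T']
  congr 1
  exact RingHom.ext fun x => eq.commutes x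

end Groth.Agent.KindDescent
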