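import Mathlib
import Groth.Agent.KindDescent.Basic
import Groth.Agent.RegImmLib.Basic

/-!
# fpqc descent of `H_1`-regular and quasi-regular immersions
-/

set_option autoImplicit false
set_option linter.style.haveILetI false

universe u

open AlgebraicGeometry CategoryTheory Groth.Agent.KRegLib Groth.Agent.RegConormal

namespace Groth.Agent.KindDescent

/-- An immersion cut out near a point by a sequence of the given kind. -/
def SeqAt (k : RegImm.Kind) {Z X : Scheme.{u}} (i : Z ⟶ X) (z : Z) : Prop :=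
  ∃ (U : X.Opens) (_ : IsAffineOpen U), i z ∈ U ∧ IsClosedImmersion (i ∣_ U) ∧
    ∃ (n : ℕ) (f : Fin n → Γ(X, U)), SeqP k f ∧ RingHom.ker (i.app U).hom = Ideal.span (Set.range f)

theorem isRegularImmersionAt_iff {k : RegImm.Kind} (hk : k = .h1 ∨ k = .quasi) {Z X : Scheme.{u}} (i : Z ⟶ X) (z : Z) :
    RegImm.IsRegularImmersionAt k i z ↔ SeqAt k i z := by
  constructor
  · rintro ⟨U, hz, hci, rs, hrs, hker⟩
    refine ⟨U.1, U.2, hz, hci, rs.length, rs.get, seqP_of_seq hk rs hrs, hker.trans ?_⟩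
    rw [RegImmLib.span_range_eq_ofList, List.ofFn_get]
  · rintro ⟨U, hU, hz, hci, n, f, hf, hker⟩
    exact ⟨⟨U, hU⟩, hz, hci, List.ofFn f, seq_of_seqP f hf, hker.trans (RegImmLib.span_range_eq_ofList f)⟩

theorem near_of_seqAt {k : RegImm.Kind} {Z P : Scheme.{u}} (i : Z ⟶ P) (z : Z)
    (h : SeqAt k i z) {D : P.Opens} (hD : IsAffineOpen D) (hzD : i z ∈ D)
    [IsClosedImmersion (i ∣_ D)] :
    Near k (RingHom.ker (i.app D).hom) (hD.primeIdealOf ⟨i z, hzD⟩).asIdeal := by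
  obtain ⟨W, hW, hzW, hci, n, f, hf, hker⟩ := h
  obtain ⟨hW', hWs⟩ := Synt29.surjective_app_of_isClosedImmersion_restrict i W hW
  obtain ⟨hD', hDs⟩ := Synt29.surjective_app_of_isClosedImmersion_restrict i D hD
  obtain ⟨g, g', hgg, hzg⟩ := exists_basicOpen_le_affine_inter hD hW (i z) ⟨hzD, hzW⟩
  letI : Algebra Γ(P, D) Γ(P, P.basicOpen g) := (P.presheaf.map (homOfLE (P.basicOpen_le g)).op).hom.toAlgebra
  haveI : IsLocalization.Away g Γ(P, P.basicOpen g) := hD.isLocalization_basicOpen g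
  haveI := hW.isLocalization_basicOpen g'
  have hgp : g ∉ (hD.primeIdealOf ⟨i z, hzD⟩).asIdeal := by
    intro hmem
    have : hD.primeIdealOf ⟨i z, hzD⟩ ∈ PrimeSpectrum.basicOpen g := by
      rw [← hD.fromSpec_preimage_basicOpen g]
      show hD.fromSpec (hD.primeIdealOf ⟨i z, hzD⟩) ∈ P.basicOpen g
      rw [hD.fromSpec_primeIdealOf]
      exact hzg
    exact this hmem
  haveI : Module.Flat Γ(P, W) Γ(P, P.basicOpen g') := IsLocalization.flat _ (Submonoid.powers g')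
  have key : ∀ (O : P.Opens) (hO : O = P.basicOpen g'), ∃ (n : ℕ) (f : Fin n → Γ(P, O)), SeqP k f ∧
      RingHom.ker (i.app O).hom = Ideal.span (Set.range f) := by
    rintro O rfl
    refine ⟨n, fun j => algebraMap Γ(P, W) Γ(P, P.basicOpen g') (f j), seqP_flat hf,
      ((app_basicOpen_props i hW hW' hWs g').2.2).trans ?_⟩
    rw [hker]
    exact Synt29.QRDescent.map_span_range f
  obtain ⟨n', f', hf', hfI'⟩ := key (P.basicOpen g) hgg
  let e : Γ(P, P.basicOpen g) ≃ₐ[Γ(P, D)] Localization.Away g := IsLocalization.algEquiv (Submonoid.powers g) _ _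
  letI : Algebra Γ(P, P.basicOpen g) (Localization.Away g) := e.toAlgHom.toRingHom.toAlgebra
  haveI : Module.Flat Γ(P, P.basicOpen g) (Localization.Away g) :=
    RingHom.Flat.of_bijective (f := e.toAlgHom.toRingHom) e.bijective
  refine ⟨g, hgp, n', fun j => algebraMap _ (Localization.Away g) (f' j), seqP_flat hf', ?_⟩
  rw [← Synt29.QRDescent.map_span_range, ← hfI', (app_basicOpen_props i hD hD' hDs g).2.2, Ideal.map_map]
  congr 1
  exact RingHom.ext fun x => e.commutes x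

theorem regImmAt_of_near {k : RegImm.Kind} {Z P : Scheme.{u}} (i : Z ⟶ P) (z : Z)
    {D : P.Opens} (hD : IsAffineOpen D) (hzD : i z ∈ D) [hci : IsClosedImmersion (i ∣_ D)]
    (h : Near k (RingHom.ker (i.app D).hom) (hD.primeIdealOf ⟨i z, hzD⟩).asIdeal) :
    RegImm.IsRegularImmersionAt k i z := by
  obtain ⟨g, hg, hon⟩ := h.exists_on
  letI : Algebra Γ(P, D) Γ(P, P.basicOpen g) := (P.presheaf.map (homOfLE (P.basicOpen_le g)).op).hom.toAlgebra
  haveI : IsLocalization.Away g Γ(P, P.basicOpen g) := hD.isLocalization_basicOpen g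
  haveI : Module.Flat Γ(P, D) Γ(P, P.basicOpen g) := IsLocalization.flat _ (Submonoid.powers g)
  obtain ⟨n, f, hf, hfI⟩ := hon Γ(P, P.basicOpen g) (IsLocalization.Away.algebraMap_isUnit g)
  exact at_of_basicOpen i z k hD hzD hci g hg f (seq_of_seqP f hf) hfI.symm

/-- Flat base change. -/
theorem SeqAt.baseChange {X Y X' Y' : Scheme.{u}} {i : Y ⟶ X} {g : X' ⟶ X} [Flat g]
    {i' : Y' ⟶ X'} {g' : Y' ⟶ Y} (hsq : IsPullback g' i' i g) (z' : Y') {k : RegImm.Kind}
    (h : SeqAt k i (g' z')) : SeqAt k i' z' := by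
  obtain ⟨U, hU, hzU, hci, n, f, hf, hker⟩ := h
  have hx : g (i' z') ∈ U := by
    have h1 : g (i' z') = i (g' z') := (congrArg (fun φ : Y' ⟶ X => φ z') hsq.w).symm
    rw [h1]
    exact hzU
  obtain ⟨U', hU', hzU', hle⟩ := exists_isAffineOpen_mem_and_subset (U := g ⁻¹ᵁ U) (x := i' z') hx
  obtain ⟨hUY, hUs⟩ := Synt29.surjective_app_of_isClosedImmersion_restrict i U hU
  have hUY' : i' ⁻¹ᵁ U' = g' ⁻¹ᵁ (i ⁻¹ᵁ U) ⊓ i' ⁻¹ᵁ U' := by
    refine (inf_eq_right.2 fun y hy => ?_).symm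
    show i (g' y) ∈ U
    have h1 : i (g' y) = g (i' y) := congrArg (fun φ : Y' ⟶ X => φ y) hsq.w
    rw [h1]
    exact hle hy
  have hpo := (isIso_pushoutSection_iff hsq hle le_rfl hUY').1
    (isIso_pushoutSection_of_isAffineOpen hsq hle le_rfl hUY' hU hU' hUY)
  have hs : Function.Surjective (i.appLE U (i ⁻¹ᵁ U) le_rfl) := by
    rw [← Scheme.Hom.app_eq_appLE]
    exact hUs
  have hk := RegImmLib.ker_of_isPushout hpo hs
  rw [← Scheme.Hom.app_eq_appLE, ← Scheme.Hom.app_eq_appLE] at hk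
  letI : Algebra Γ(X, U) Γ(X', U') := (g.appLE U U' hle).hom.toAlgebra
  haveI : Module.Flat Γ(X, U) Γ(X', U') := g.flat_appLE hU hU' hle
  refine ⟨U', hU', hzU', ?_, n, fun k => algebraMap Γ(X, U) Γ(X', U') (f k), seqP_flat hf,
    hk.trans ?_⟩
  · have h2 := Scheme.Hom.isPullback_resLE hsq hle le_rfl hUY'
    have h3 : IsClosedImmersion (i.resLE U (i ⁻¹ᵁ U) le_rfl) := by
      rw [Scheme.Hom.resLE_eq_morphismRestrict]
      exact hci
    rw [← Scheme.Hom.resLE_eq_morphismRestrict]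
    exact MorphismProperty.of_isPullback (P := @IsClosedImmersion) h2 h3
  · rw [hker, Ideal.map_span, ← Set.range_comp]
    rfl

/-- fpqc descent of `H_1`/quasi regularity of an immersion. -/
theorem isRegularImmersion_of_fpqc {k : RegImm.Kind} (hk : k = .h1 ∨ k = .quasi) {X Y X' Y' : Scheme.{u}} (i : Y ⟶ X) [IsImmersion i]
    (g : X' ⟶ X) [Flat g] [Surjective g] [QuasiCompact g]
    (i' : Y' ⟶ X') (g' : Y' ⟶ Y) (hsq : IsPullback g' i' i g)
    (hi' : RegImm.IsRegularImmersion k i') : RegImm.IsRegularImmersion k i := by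
  refine ⟨inferInstance, fun z => ?_⟩
  obtain ⟨U, hU, hzU, -, hci⟩ := exists_affine_isClosedImmersion_restrict i z ⊤ trivial
  haveI : CompactSpace (g ⁻¹ᵁ U : X'.Opens) :=
    isCompact_iff_compactSpace.1 (QuasiCompact.isCompact_preimage (f := g) U U.2 hU.isCompact)
  obtain ⟨W, p, hp, hpl, hW⟩ :=
    (g ⁻¹ᵁ U).toScheme.exists_hom_isAffine_of_isZariskiLocalAtSource @IsLocalIso
  haveI : Flat p := (IsLocalIso.le_of_isZariskiLocalAtSource @Flat) _ _ p hpl
  let q : W ⟶ X' := p ≫ (g ⁻¹ᵁ U).ι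
  let Y'' := Limits.pullback i' q
  let i'' : Y'' ⟶ W := Limits.pullback.snd i' q
  have hsq'' : IsPullback (Limits.pullback.fst i' q ≫ g') i'' i (q ≫ g) :=
    (IsPullback.of_hasPullback i' q).paste_horiz hsq
  have hi'' : ∀ y, SeqAt k i'' y := fun y =>
    ((isRegularImmersionAt_iff hk i' _).1 (hi'.2 _)).baseChange (IsPullback.of_hasPullback i' q) y
  have hle : (⊤ : W.Opens) ≤ (q ≫ g) ⁻¹ᵁ U := fun w _ => (p w).2
  obtain ⟨hUY, hUs⟩ := Synt29.surjective_app_of_isClosedImmersion_restrict i U hU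
  have hWtop : IsAffineOpen (⊤ : W.Opens) := isAffineOpen_top W
  have hUY' : i'' ⁻¹ᵁ ⊤ = (Limits.pullback.fst i' q ≫ g') ⁻¹ᵁ (i ⁻¹ᵁ U) ⊓ i'' ⁻¹ᵁ ⊤ := by
    refine (inf_eq_right.2 fun y hy => ?_).symm
    show i ((Limits.pullback.fst i' q ≫ g') y) ∈ U
    have h1 : i ((Limits.pullback.fst i' q ≫ g') y) = (q ≫ g) (i'' y) :=
      congrArg (fun φ : Y'' ⟶ X => φ y) hsq''.w
    rw [h1]
    exact hle hy
  have hpo := (isIso_pushoutSection_iff hsq'' hle le_rfl hUY').1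
    (isIso_pushoutSection_of_isAffineOpen hsq'' hle le_rfl hUY' hU hWtop hUY)
  have hs : Function.Surjective (i.appLE U (i ⁻¹ᵁ U) le_rfl) := by
    rw [← Scheme.Hom.app_eq_appLE]
    exact hUs
  have hk' := RegImmLib.ker_of_isPushout hpo hs
  rw [← Scheme.Hom.app_eq_appLE, ← Scheme.Hom.app_eq_appLE] at hk'
  -- the ring map is faithfully flat
  letI : Algebra Γ(X, U) Γ(W, ⊤) := ((q ≫ g).appLE U ⊤ hle).hom.toAlgebra
  haveI : Module.FaithfullyFlat Γ(X, U) Γ(W, ⊤) := by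
    haveI hflat : Module.Flat Γ(X, U) Γ(W, ⊤) := (q ≫ g).flat_appLE hU hWtop hle
    refine RingHom.FaithfullyFlat.iff_flat_and_comap_surjective.2 ⟨hflat, fun P => ?_⟩
    obtain ⟨x', hx'⟩ := g.surjective (hU.fromSpec P)
    have hxU : x' ∈ g ⁻¹ᵁ U := by
      show g x' ∈ U
      rw [hx']
      have h0 : hU.fromSpec P ∈ Set.range hU.fromSpec := ⟨P, rfl⟩
      rwa [hU.range_fromSpec] at h0
    haveI := hp
    obtain ⟨w, hw⟩ := p.surjective ⟨x', hxU⟩
    refine ⟨hWtop.primeIdealOf ⟨w, trivial⟩, hU.fromSpec.isOpenEmbedding.injective ?_⟩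
    show (Spec.map ((q ≫ g).appLE U ⊤ hle) ≫ hU.fromSpec) _ = _
    rw [IsAffineOpen.SpecMap_appLE_fromSpec (q ≫ g) hU hWtop hle]
    show (q ≫ g) (hWtop.fromSpec _) = _
    rw [hWtop.fromSpec_primeIdealOf]
    show g ((g ⁻¹ᵁ U).ι (p w)) = _
    rw [hw]
    exact hx'
  -- the extended ideal is Koszul regular
  haveI : IsClosedImmersion (i'' ∣_ ⊤) := by
    have h2 := Scheme.Hom.isPullback_resLE hsq'' hle le_rfl hUY'
    have h3 : IsClosedImmersion (i.resLE U (i ⁻¹ᵁ U) le_rfl) := by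
      rw [Scheme.Hom.resLE_eq_morphismRestrict]
      exact hci
    rw [← Scheme.Hom.resLE_eq_morphismRestrict]
    exact MorphismProperty.of_isPullback (P := @IsClosedImmersion) h2 h3
  obtain ⟨hY'', hsW⟩ := Synt29.surjective_app_of_isClosedImmersion_restrict i'' ⊤ hWtop
  have hKW : ∀ P : Ideal Γ(W, ⊤), P.IsPrime → RingHom.ker (i''.app ⊤).hom ≤ P →
      Near k (RingHom.ker (i''.app ⊤).hom) P := by
    intro P hP hle'
    let Q : Ideal Γ(Y'', i'' ⁻¹ᵁ ⊤) := P.map (i''.app ⊤).hom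
    haveI : Q.IsPrime := Ideal.map_isPrime_of_surjective hsW hle'
    let y : Y'' := hY''.fromSpec ⟨Q, inferInstance⟩
    have hy : i'' y = hWtop.fromSpec ⟨P, hP⟩ := by
      have h1 := IsAffineOpen.SpecMap_appLE_fromSpec i'' hWtop hY'' le_rfl
      show (hY''.fromSpec ≫ i'') _ = _
      rw [← h1]
      show hWtop.fromSpec (Spec.map _ _) = _
      congr 1
      apply PrimeSpectrum.ext
      show Q.comap (i''.appLE ⊤ (i'' ⁻¹ᵁ ⊤) le_rfl).hom = P
      rw [← Scheme.Hom.app_eq_appLE]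
      show (P.map (i''.app ⊤).hom).comap (i''.app ⊤).hom = P
      rw [Ideal.comap_map_of_surjective _ hsW, ← RingHom.ker_eq_comap_bot, sup_eq_left]
      exact hle'
    have h := near_of_seqAt i'' y (hi'' y) hWtop trivial
    have hp' : hWtop.primeIdealOf ⟨i'' y, trivial⟩ = ⟨P, hP⟩ :=
      hWtop.fromSpec.isOpenEmbedding.injective ((hWtop.fromSpec_primeIdealOf _).trans hy)
    rw [hp'] at h
    exact h
  have hle0 : RingHom.ker (i.app U).hom ≤ (hU.primeIdealOf ⟨i z, hzU⟩).asIdeal := by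
    have h1 := IsAffineOpen.SpecMap_appLE_fromSpec i hU hUY le_rfl
    have h2 : hU.primeIdealOf ⟨i z, hzU⟩ = Spec.map (i.appLE U (i ⁻¹ᵁ U) le_rfl) (hUY.primeIdealOf ⟨z, hzU⟩) := by
      apply hU.fromSpec.isOpenEmbedding.injective
      rw [hU.fromSpec_primeIdealOf]
      show i z = (Spec.map _ ≫ hU.fromSpec) _
      rw [h1]
      show i z = i (hUY.fromSpec _)
      rw [hUY.fromSpec_primeIdealOf]
    rw [h2, ← Scheme.Hom.app_eq_appLE]
    exact fun a ha => by
      show (i.app U).hom a ∈ (hUY.primeIdealOf ⟨z, hzU⟩).asIdeal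
      rw [(RingHom.mem_ker).1 ha]
      exact zero_mem _
  exact regImmAt_of_near i z hU hzU
    (near_of_faithfullyFlat hk (B := Γ(W, ⊤)) _ (hk' ▸ hKW) _ hle0)

end Groth.Agent.KindDescent
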